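import Mathlib

/-!
Ranks of `A ⊗ B - c`, elements of prime order of GL, and tensor normal forms of square roots of scalars.
-/

set_option autoImplicit false
set_option linter.unusedSectionVars false

namespace Cfsg.Agent.KronRank

open Matrix Module Kronecker

variable {F : Type*} [Field F] {a b : ℕ}

theorem scalar_of_eigen (A : Matrix (Fin a) (Fin a) F) (h : ∀ φ : Fin a → F, ∃ t : F, φ ᵥ* A = t • φ) :
    ∃ t : F, A = t • 1 := by
  rcases Nat.eq_zero_or_pos a with rfl | ha
  · exact ⟨1, Subsingleton.elim _ _⟩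
  choose t ht using h
  let i₀ : Fin a := ⟨0, ha⟩
  have hrow : ∀ i j, A i j = t (Pi.single i 1) * if i = j then 1 else 0 := fun i j => by
    have := congrFun (ht (Pi.single i 1)) j
    rw [Matrix.single_one_vecMul] at this
    rw [show A i j = _ from this, Pi.smul_apply, smul_eq_mul, Pi.single_apply]
    simp only [eq_comm]
  have hdiag : ∀ i j, t (Pi.single i 1) = t (Pi.single j 1) := fun i j => by
    rcases eq_or_ne i j with rfl | hij
    · rfl
    have h1 := ht (Pi.single i 1 + Pi.single j 1)
    rw [Matrix.add_vecMul, ht, ht] at h1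
    have hi := congrFun h1 i
    have hj := congrFun h1 j
    simp [hij, hij.symm] at hi hj
    rw [hi, hj]
  refine ⟨t (Pi.single i₀ 1), ?_⟩
  ext i j
  rw [hrow i j, hdiag i i₀, Matrix.smul_apply, Matrix.one_apply, smul_eq_mul]

/-- A non-scalar left factor forces large rank. -/
theorem le_rank_of_nonscalar (A : Matrix (Fin a) (Fin a) F) (B : Matrix (Fin b) (Fin b) F) {c : F} (hc : c ≠ 0)
    (hA : ∀ t : F, A ≠ t • 1) : b ≤ (A ⊗ₖ B - c • 1).rank := by
  classical
  obtain ⟨φ, hφ⟩ : ∃ φ : Fin a → F, ∀ t : F, φ ᵥ* A ≠ t • φ := by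
    by_contra h
    push Not at h
    obtain ⟨t, ht⟩ := scalar_of_eigen A h
    exact hA t ht
  have hφ' : φ ∉ Submodule.span F {φ ᵥ* A} := fun h => by
    obtain ⟨t, ht⟩ := Submodule.mem_span_singleton.1 h
    rcases eq_or_ne t 0 with rfl | ht0
    · exact hφ 0 (by rw [← ht, zero_smul, Matrix.zero_vecMul, smul_zero])
    · exact hφ t⁻¹ ((eq_inv_smul_iff₀ ht0).2 ht)
  obtain ⟨χ, hχφ, hχ⟩ := Submodule.exists_dual_map_eq_bot_of_notMem hφ' inferInstance
  have hχA : χ (φ ᵥ* A) = 0 := by
    have : χ (φ ᵥ* A) ∈ (Submodule.span F {φ ᵥ* A}).map χ :=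
      Submodule.mem_map_of_mem (Submodule.mem_span_singleton_self _)
    rw [hχ] at this
    exact this
  set K := LinearMap.ker (A ⊗ₖ B - c • 1).mulVecLin with hK
  let Φ : (Fin a × Fin b → F) →ₗ[F] (Fin a → F) →ₗ[F] (Fin b → F) :=
    LinearMap.mk₂ F (fun v ψ j => ∑ i, ψ i * v (i, j))
      (fun v v' ψ => funext fun j => by simp [mul_add, Finset.sum_add_distrib])
      (fun t v ψ => funext fun j => by simp [Finset.mul_sum, mul_left_comm])
      (fun v ψ ψ' => funext fun j => by simp [add_mul, Finset.sum_add_distrib])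
      (fun t v ψ => funext fun j => by simp [Finset.mul_sum, mul_assoc])
  have hΦ : ∀ v ψ j, Φ v ψ j = ∑ i, ψ i * v (i, j) := fun v ψ j => rfl
  have heq : ∀ v, B *ᵥ Φ v (φ ᵥ* A) = Φ ((A ⊗ₖ B) *ᵥ v) φ := fun v => funext fun j => by
    simp only [Matrix.mulVec, dotProduct, Matrix.vecMul, hΦ, Matrix.kroneckerMap_apply, Fintype.sum_prod_type,
      Finset.mul_sum, Finset.sum_mul]
    rw [Finset.sum_comm]
    rw [Finset.sum_comm (γ := Fin a) (α := Fin a)] at *
    refine Finset.sum_congr rfl fun i' _ => ?_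
    rw [Finset.sum_comm]
    exact Finset.sum_congr rfl fun i _ => Finset.sum_congr rfl fun j' _ => by ring
  let L : K →ₗ[F] (LinearMap.ker χ →ₗ[F] (Fin b → F)) := (LinearMap.lcomp F _ (LinearMap.ker χ).subtype).comp (Φ.comp K.subtype)
  have hL : Function.Injective L := (injective_iff_map_eq_zero L).2 fun v hv => by
    have h0 : ∀ ψ, χ ψ = 0 → Φ v.1 ψ = 0 := fun ψ hψ => LinearMap.congr_fun hv ⟨ψ, hψ⟩
    have hker : (A ⊗ₖ B) *ᵥ v.1 = c • v.1 := by
      have h : (A ⊗ₖ B - c • 1) *ᵥ v.1 = 0 := v.2
      rwa [Matrix.sub_mulVec, Matrix.smul_mulVec, Matrix.one_mulVec, sub_eq_zero] at h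
    have h1 := heq v.1
    rw [h0 _ hχA, Matrix.mulVec_zero, hker, map_smul, LinearMap.smul_apply, eq_comm, smul_eq_zero] at h1
    have hall : ∀ ψ, Φ v.1 ψ = 0 := fun ψ => by
      have := h0 (ψ - (χ ψ / χ φ) • φ) (by rw [map_sub, map_smul, smul_eq_mul, div_mul_cancel₀ _ hχφ, sub_self])
      rwa [map_sub, map_smul, h1.resolve_left hc, smul_zero, sub_zero] at this
    refine Subtype.ext (funext fun p => ?_)
    have := congrFun (hall (Pi.single p.1 1)) p.2
    rw [hΦ] at this
    simpa [Pi.single_apply] using this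
  have h1 := LinearMap.finrank_le_finrank_of_injective hL
  have h2 : finrank F (LinearMap.ker χ) + 1 = a := by
    have := LinearMap.finrank_range_add_finrank_ker χ
    rw [LinearMap.range_eq_top.2 ((LinearMap.surjective_or_eq_zero χ).resolve_right
      fun h => hχφ (by rw [h]; rfl)), finrank_top, finrank_self, Module.finrank_fin_fun] at this
    omega
  have h3 := LinearMap.finrank_range_add_finrank_ker (A ⊗ₖ B - c • 1).mulVecLin
  rw [← hK, Module.finrank_pi, Fintype.card_prod, Fintype.card_fin, Fintype.card_fin] at h3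
  rw [Module.finrank_linearMap, Module.finrank_fin_fun] at h1
  change b ≤ finrank F (LinearMap.range (A ⊗ₖ B - c • 1).mulVecLin)
  have h4 : a * b = finrank F (LinearMap.ker χ) * b + b := by
    conv_lhs => rw [← h2]
    ring
  omega

theorem rank_one_kron (M : Matrix (Fin b) (Fin b) F) : ((1 : Matrix (Fin a) (Fin a) F) ⊗ₖ M).rank = a * M.rank := by
  classical
  have hmv : ∀ v (i : Fin a) j, (((1 : Matrix (Fin a) (Fin a) F) ⊗ₖ M) *ᵥ v) (i, j) = (M *ᵥ fun k => v (i, k)) j := by
    intro v i j
    simp [Matrix.mulVec, dotProduct, Fintype.sum_prod_type, Matrix.one_apply]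
  let E : LinearMap.ker ((1 : Matrix (Fin a) (Fin a) F) ⊗ₖ M).mulVecLin ≃ₗ[F] (Fin a → LinearMap.ker M.mulVecLin) :=
    { toFun := fun v i => ⟨fun k => v.1 (i, k), funext fun j => by
        rw [Matrix.mulVecLin_apply, ← hmv]
        exact congrFun v.2 (i, j)⟩
      invFun := fun f => ⟨fun p => (f p.1).1 p.2, funext fun p => by
        rw [Matrix.mulVecLin_apply, hmv]
        exact congrFun (f p.1).2 p.2⟩
      map_add' := fun _ _ => rfl
      map_smul' := fun _ _ => rfl
      left_inv := fun _ => rfl
      right_inv := fun _ => rfl }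
  have h1 := LinearMap.finrank_range_add_finrank_ker ((1 : Matrix (Fin a) (Fin a) F) ⊗ₖ M).mulVecLin
  have h2 := LinearMap.finrank_range_add_finrank_ker M.mulVecLin
  rw [E.finrank_eq, Module.finrank_pi_fintype, Finset.sum_const, Finset.card_univ, Fintype.card_fin, smul_eq_mul,
    Module.finrank_pi, Fintype.card_prod, Fintype.card_fin, Fintype.card_fin] at h1
  rw [Module.finrank_fin_fun] at h2
  have h3 : a * b = a * M.rank + a * finrank F (LinearMap.ker M.mulVecLin) := by rw [← mul_add]; exact congrArg (a * ·) h2.symm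
  change finrank F (LinearMap.range ((1 : Matrix (Fin a) (Fin a) F) ⊗ₖ M).mulVecLin) = _
  omega

theorem pow_kron (A : Matrix (Fin a) (Fin a) F) (B : Matrix (Fin b) (Fin b) F) : ∀ r : ℕ, (A ⊗ₖ B) ^ r = (A ^ r) ⊗ₖ (B ^ r)
  | 0 => by simp
  | r + 1 => by rw [pow_succ, pow_kron A B r, ← Matrix.mul_kronecker_mul, ← pow_succ, ← pow_succ]

/-- The kernel of the unit of a finite field: an element of order `r` of a linear group needs room. -/
theorem order_le_rank [Fintype F] {m r : ℕ} (hr : r.Prime) (hrF : (r : F) ≠ 0) {M : Matrix (Fin m) (Fin m) F}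
    (hMr : M ^ r = 1) (hM : M ≠ 1) : orderOf (Fintype.card F : ZMod r) ≤ (M - 1).rank := by
  classical
  haveI : Fact r.Prime := ⟨hr⟩
  set T := (M - 1).mulVecLin
  set R := LinearMap.range T
  have hT : ∀ v, T v = M *ᵥ v - v := fun v => by simp [T, Matrix.sub_mulVec]
  have hR : ∀ v ∈ R, M.mulVecLin v ∈ R := by
    rintro _ ⟨w, rfl⟩
    refine ⟨M *ᵥ w, ?_⟩
    show T (M *ᵥ w) = M *ᵥ T w
    rw [hT, hT, Matrix.mulVec_sub]
  let f : Module.End F R := M.mulVecLin.restrict hR
  have hp : ∀ (i : ℕ) (v : R), ((f ^ i) v).1 = (M ^ i) *ᵥ v.1 := by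
    intro i
    induction i with
    | zero => intro v; simp
    | succ i ih => intro v; rw [pow_succ', Module.End.mul_apply, pow_succ', ← Matrix.mulVec_mulVec, ← ih]; rfl
  have hfr : f ^ r = 1 := LinearMap.ext fun v => Subtype.ext (by rw [hp, hMr, Matrix.one_mulVec]; rfl)
  have hf1 : f ≠ 1 := fun h => hM (by
    have hfix : ∀ w, M *ᵥ T w = T w := fun w => congrArg Subtype.val (LinearMap.congr_fun h ⟨T w, w, rfl⟩)
    have hn : ∀ (i : ℕ) w, (M ^ i) *ᵥ w = w + i • T w := by
      intro i
      induction i with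
      | zero => intro w; simp
      | succ i ih =>
        intro w
        rw [pow_succ', ← Matrix.mulVec_mulVec, ih, Matrix.mulVec_add, Matrix.mulVec_smul, hfix, succ_nsmul', hT]
        abel
    refine Matrix.ext_of_mulVec_single fun i => ?_
    have h0 := hn r (Pi.single i 1)
    rw [hMr, Matrix.one_mulVec, ← Nat.cast_smul_eq_nsmul F] at h0
    have := (smul_eq_zero.1 (add_eq_left.1 h0.symm)).resolve_left hrF
    rw [hT, sub_eq_zero] at this
    rw [this, Matrix.one_mulVec])
  let bR := Module.finBasis F R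
  let u : GL (Fin (finrank F R)) F := Units.map (LinearMap.toMatrixAlgEquiv bR).toMonoidHom
    (Units.ofPowEqOne f r hfr hr.ne_zero)
  have hu : orderOf u = r := by
    have hinj : Function.Injective (Units.map (LinearMap.toMatrixAlgEquiv bR).toMonoidHom) :=
      Units.map_injective (LinearMap.toMatrixAlgEquiv bR).injective
    rw [orderOf_injective _ hinj, ← orderOf_units, Units.val_ofPowEqOne]
    exact orderOf_eq_prime hfr hf1
  have h := hu ▸ orderOf_dvd_natCard u
  rw [Matrix.card_GL_field] at h
  obtain ⟨i, -, hi⟩ := (Prime.dvd_finsetProd_iff hr.prime _).1 h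
  set q := Fintype.card F
  have hq : ¬ r ∣ q := fun hd => hrF (by
    obtain ⟨p, hp⟩ := CharP.exists F
    obtain ⟨k, hpp, hk⟩ := FiniteField.card F p
    rw [show q = p ^ (k : ℕ) from hk] at hd
    rw [(Nat.prime_dvd_prime_iff_eq hr hpp).1 (hr.dvd_of_dvd_pow hd)]
    exact CharP.cast_eq_zero F p)
  have hlt : (i : ℕ) < finrank F R := i.2
  have e : q ^ finrank F R - q ^ (i : ℕ) = q ^ (i : ℕ) * (q ^ (finrank F R - i) - 1) := by
    rw [Nat.mul_sub, mul_one, ← pow_add, Nat.add_sub_cancel' hlt.le]
  rw [e] at hi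
  have h2 := (hr.dvd_mul.1 hi).resolve_left fun hd => hq (hr.dvd_of_dvd_pow hd)
  rw [← ZMod.natCast_eq_zero_iff, Nat.cast_sub (Nat.one_le_pow _ _ Fintype.card_pos), Nat.cast_pow, Nat.cast_one,
    sub_eq_zero] at h2
  exact (Nat.le_of_dvd (by omega) (orderOf_dvd_of_pow_eq_one h2)).trans (Nat.sub_le _ _)

/-- Tensor normal form of a matrix whose square is a scalar, with a commuting matrix of any determinant. -/
theorem exists_normal_form [Fintype F] (h2 : (2 : F) ≠ 0) (hb : 0 < b) {X : Matrix (Fin 2 × Fin b) (Fin 2 × Fin b) F}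
    {z : F} (hz : z ≠ 0) (hX : X * X = z • 1) (hdet : X.det = 1) (hs : ∀ s, s * s = z → s ^ (2 * b) ≠ -1) :
    ∃ (A : GL (Fin 2) F) (B : GL (Fin b) F), ∀ d : F, d ≠ 0 → ∃ G : Matrix (Fin 2 × Fin b) (Fin 2 × Fin b) F,
      G.det = d ∧ X * G = G * (A.1 ⊗ₖ B.1) := by
  classical
  suffices ∃ (A : GL (Fin 2) F) (B : GL (Fin b) F) (G : Matrix (Fin 2 × Fin b) (Fin 2 × Fin b) F),
      G.det ≠ 0 ∧ X * G = G * (A.1 ⊗ₖ B.1) ∧ ∀ d : F, d ≠ 0 → ∃ c, c.det = d ∧ Commute c (A.1 ⊗ₖ B.1) by
    obtain ⟨A, B, G, hG, hXG, hc⟩ := this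
    refine ⟨A, B, fun d hd => ?_⟩
    obtain ⟨c, hcd, hcc⟩ := hc (d / G.det) (div_ne_zero hd hG)
    exact ⟨G * c, by rw [Matrix.det_mul, hcd, mul_div_cancel₀ _ hG], by rw [← mul_assoc, hXG, mul_assoc, ← hcc.eq, mul_assoc]⟩
  have hXX : ∀ v, X *ᵥ (X *ᵥ v) = z • v := fun v => by rw [Matrix.mulVec_mulVec, hX, Matrix.smul_mulVec, Matrix.one_mulVec]
  by_cases hsq : IsSquare z
  · obtain ⟨s, rfl⟩ := hsq
    have hs0 : s ≠ 0 := fun h => hz (by rw [h, zero_mul])
    have h2s : s + s ≠ 0 := by rw [← two_mul]; exact mul_ne_zero h2 hs0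
    let E : F → Submodule F (Fin 2 × Fin b → F) := fun t => LinearMap.ker (X.mulVecLin - t • LinearMap.id)
    have hE : ∀ t v, v ∈ E t ↔ X *ᵥ v = t • v := fun t v => sub_eq_zero
    have hcp : IsCompl (E s) (E (-s)) := by
      refine ⟨?_, ?_⟩
      · rw [Submodule.disjoint_def]
        intro v h1 h3
        rw [hE] at h1 h3
        rw [h1, neg_smul, eq_neg_iff_add_eq_zero, ← add_smul] at h3
        exact (smul_eq_zero.1 h3).resolve_left h2s
      · rw [codisjoint_iff, eq_top_iff]
        intro v _
        have e1 : v = (s + s)⁻¹ • (X *ᵥ v + s • v) + -((s + s)⁻¹ • (X *ᵥ v - s • v)) := by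
          rw [← sub_eq_add_neg, ← smul_sub, add_sub_sub_cancel, ← add_smul, smul_smul, inv_mul_cancel₀ h2s, one_smul]
        rw [e1]
        refine Submodule.add_mem_sup (Submodule.smul_mem _ _ ((hE _ _).2 ?_)) (neg_mem (Submodule.smul_mem _ _ ((hE _ _).2 ?_)))
        · rw [Matrix.mulVec_add, Matrix.mulVec_smul, hXX, smul_add, smul_smul, add_comm]
        · rw [Matrix.mulVec_sub, Matrix.mulVec_smul, hXX, smul_sub, neg_smul, neg_smul, smul_smul]
          abel
    set k := finrank F (E s) with hk
    set l := finrank F (E (-s)) with hl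
    let bas : Basis (Fin k ⊕ Fin l) F (Fin 2 × Fin b → F) :=
      ((Module.finBasis F (E s)).prod (Module.finBasis F (E (-s)))).map (Submodule.prodEquivOfIsCompl _ _ hcp)
    let w' : Fin k ⊕ Fin l → F := Sum.elim (fun _ => s) (fun _ => -s)
    have hbas : ∀ i, X *ᵥ bas i = w' i • bas i := by
      rintro (i | i)
      · have : bas (Sum.inl i) = (Module.finBasis F (E s) i).1 := by simp [bas]
        rw [this]
        exact (hE _ _).1 (Module.finBasis F (E s) i).2
      · have : bas (Sum.inr i) = (Module.finBasis F (E (-s)) i).1 := by simp [bas]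
        rw [this]
        exact (hE _ _).1 (Module.finBasis F (E (-s)) i).2
    have hkl : k + l = 2 * b := by
      rw [hk, hl, Submodule.finrank_add_eq_of_isCompl hcp, Module.finrank_pi, Fintype.card_prod, Fintype.card_fin,
        Fintype.card_fin]
    have hprod : s ^ k * (-s) ^ l = 1 := by
      have h1 : LinearMap.toMatrix bas bas X.mulVecLin = Matrix.diagonal w' := by
        ext i j
        rw [LinearMap.toMatrix_apply, Matrix.mulVecLin_apply, hbas, map_smul, Finsupp.smul_apply, Basis.repr_self,
          Matrix.diagonal_apply, Finsupp.single_apply, smul_eq_mul]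
        rcases eq_or_ne i j with rfl | h
        · simp
        · simp [h, h.symm]
      have h3 := LinearMap.det_toMatrix bas X.mulVecLin
      rw [h1, Matrix.det_diagonal, Fintype.prod_sum_type, ← Matrix.toLin'_apply', LinearMap.det_toLin', hdet] at h3
      simpa [w'] using h3
    have hle : Even l := by
      rcases Nat.even_or_odd l with h | h
      · exact h
      · rw [h.neg_pow, mul_neg, ← pow_add, hkl] at hprod
        exact absurd (by linear_combination -hprod) (hs s rfl)
    obtain ⟨l', hl'⟩ := hle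
    obtain ⟨k', hk'⟩ : Even k := (Nat.even_add.1 (hkl ▸ even_two_mul b)).2 ⟨l', hl'⟩
    let σ : Fin 2 × Fin b ≃ Fin k ⊕ Fin l :=
      ((Equiv.refl (Fin 2)).prodCongr ((finCongr (show b = k' + l' by omega)).trans finSumFinEquiv.symm)).trans
        ((Equiv.prodSumDistrib _ _ _).trans (Equiv.sumCongr
          (finProdFinEquiv.trans (finCongr (by omega))) (finProdFinEquiv.trans (finCongr (by omega)))))
    let w : Fin b → F := fun j => w' (σ (0, j))
    have hw : ∀ i j, w' (σ (i, j)) = w j := by
      intro i j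
      simp only [w, σ, Equiv.trans_apply, Equiv.prodCongr_apply, Prod.map, Equiv.refl_apply]
      generalize finSumFinEquiv.symm (finCongr _ j) = u
      rcases u with u | u <;> simp [w']
    have hw0 : IsUnit (Matrix.diagonal w) := by
      rw [Matrix.isUnit_iff_isUnit_det, Matrix.det_diagonal, isUnit_iff_ne_zero, Finset.prod_ne_zero_iff]
      intro j _
      simp only [w, w']
      rcases σ (0, j) with u | u <;> simpa using hs0
    have hkd : (1 : Matrix (Fin 2) (Fin 2) F) ⊗ₖ Matrix.diagonal w = Matrix.diagonal fun p => w' (σ p) := by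
      rw [← Matrix.diagonal_one, Matrix.diagonal_kronecker_diagonal]
      congr 1
      funext p
      rw [one_mul, hw p.1 p.2]
    refine ⟨1, hw0.unit, Matrix.of fun i p => bas (σ p) i, ?_, ?_, fun d hd => ?_⟩
    · rw [← isUnit_iff_ne_zero, ← Matrix.isUnit_iff_isUnit_det, ← Matrix.linearIndependent_cols_iff_isUnit]
      exact bas.linearIndependent.comp _ σ.injective
    · rw [IsUnit.unit_spec, Units.val_one, hkd]
      ext i p
      rw [Matrix.mul_diagonal, Matrix.of_apply]
      have := congrFun (hbas (σ p)) i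
      rw [Pi.smul_apply, smul_eq_mul, mul_comm] at this
      exact this
    · refine ⟨Matrix.diagonal (Function.update 1 (0, ⟨0, hb⟩) d), ?_, ?_⟩
      · simp [Matrix.det_diagonal, Finset.prod_update_of_mem]
      · rw [IsUnit.unit_spec, Units.val_one, hkd]
        exact Matrix.commute_diagonal _ _
  · -- no eigenvalue
    let u : ∀ {j : ℕ}, (Fin j → Fin 2 × Fin b → F) → Fin 2 × Fin j → Fin 2 × Fin b → F := fun v p =>
      if p.1 = 0 then v p.2 else X *ᵥ v p.2
    have key : ∀ j, j ≤ b → ∃ v : Fin j → Fin 2 × Fin b → F, LinearIndependent F (u v) := by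
      intro j
      induction j with
      | zero => exact fun _ => ⟨Fin.elim0, linearIndependent_empty_type⟩
      | succ j ih =>
        intro hj
        obtain ⟨v, hv⟩ := ih (by omega)
        set W := Submodule.span F (Set.range (u v)) with hW
        have hXW : ∀ w ∈ W, X *ᵥ w ∈ W := by
          intro w hw
          induction hw using Submodule.span_induction with
          | mem x hx =>
            obtain ⟨⟨i, k⟩, rfl⟩ := hx
            fin_cases i
            · exact Submodule.subset_span ⟨(1, k), by simp [u]⟩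
            · have : X *ᵥ u v (1, k) = z • u v (0, k) := by simp [u, hXX]
              show X *ᵥ u v (1, k) ∈ W
              rw [this]
              exact Submodule.smul_mem _ _ (Submodule.subset_span ⟨_, rfl⟩)
          | zero => simp
          | add x y _ _ hx hy => rw [Matrix.mulVec_add]; exact add_mem hx hy
          | smul c x _ hx => rw [Matrix.mulVec_smul]; exact Submodule.smul_mem _ _ hx
        obtain ⟨x, hx⟩ : ∃ x, x ∉ W := by
          by_contra h
          push Not at h
          have h1 := finrank_span_eq_card hv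
          rw [← hW, show W = ⊤ from eq_top_iff.2 fun x _ => h x, finrank_top, Module.finrank_pi, Fintype.card_prod, Fintype.card_prod] at h1
          simp only [Fintype.card_fin] at h1
          omega
        refine ⟨Fin.snoc v x, Fintype.linearIndependent_iff.2 fun g hg => ?_⟩
        rw [Fintype.sum_prod_type, Fin.sum_univ_two, Fin.sum_univ_castSucc, Fin.sum_univ_castSucc] at hg
        simp only [u, if_true, one_ne_zero, if_false, Fin.snoc_castSucc, Fin.snoc_last] at hg
        have hin : g (0, Fin.last j) • x + g (1, Fin.last j) • X *ᵥ x ∈ W := by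
          have : g (0, Fin.last j) • x + g (1, Fin.last j) • X *ᵥ x =
              -((∑ k : Fin j, g (0, k.castSucc) • u v (0, k)) + ∑ k : Fin j, g (1, k.castSucc) • u v (1, k)) := by
            rw [eq_neg_iff_add_eq_zero, ← hg]
            simp [u]
            abel
          rw [this]
          exact neg_mem (add_mem (sum_mem fun k _ => Submodule.smul_mem _ _ (Submodule.subset_span ⟨_, rfl⟩))
            (sum_mem fun k _ => Submodule.smul_mem _ _ (Submodule.subset_span ⟨_, rfl⟩)))
        have h1 : g (1, Fin.last j) = 0 := by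
          by_contra h
          set c := (g (1, Fin.last j))⁻¹ * g (0, Fin.last j) with hc
          have hy : X *ᵥ x + c • x ∈ W := by
            have := W.smul_mem (g (1, Fin.last j))⁻¹ hin
            rwa [smul_add, smul_smul, smul_smul, inv_mul_cancel₀ h, one_smul, add_comm] at this
          have hy' := sub_mem (hXW _ hy) (W.smul_mem c hy)
          rw [Matrix.mulVec_add, hXX, Matrix.mulVec_smul, smul_add, smul_smul, add_comm (z • x), add_sub_add_left_eq_sub,
            ← sub_smul] at hy'
          exact hx ((W.smul_mem_iff (sub_ne_zero.2 fun e => hsq ⟨c, e⟩)).1 hy')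
        have h0 : g (0, Fin.last j) = 0 := by
          rw [h1, zero_smul, add_zero] at hin
          by_contra h
          exact hx ((W.smul_mem_iff h).1 hin)
        rw [h1, h0, zero_smul, zero_smul, add_zero, add_zero] at hg
        have hrest := Fintype.linearIndependent_iff.1 hv (fun p => g (p.1, p.2.castSucc)) (by
          rw [Fintype.sum_prod_type, Fin.sum_univ_two]
          simpa [u] using hg)
        rintro ⟨i, k⟩
        induction k using Fin.lastCases with
        | last => fin_cases i; exacts [h0, h1]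
        | cast k => exact hrest (i, k)
    obtain ⟨v, hv⟩ := key b le_rfl
    have hA : IsUnit !![(0 : F), z; 1, 0] := by
      rw [Matrix.isUnit_iff_isUnit_det, isUnit_iff_ne_zero, Matrix.det_fin_two_of]
      simpa using hz
    refine ⟨hA.unit, 1, Matrix.of fun i p => u v p i, ?_, ?_, fun d hd => ?_⟩
    · rw [← isUnit_iff_ne_zero, ← Matrix.isUnit_iff_isUnit_det, ← Matrix.linearIndependent_cols_iff_isUnit]
      exact hv
    · rw [IsUnit.unit_spec, Units.val_one]
      ext i ⟨p, k⟩
      have hl : (X * Matrix.of fun i p => u v p i) i (p, k) = (X *ᵥ u v (p, k)) i := rfl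
      rw [hl, Matrix.mul_apply, Fintype.sum_prod_type, Fin.sum_univ_two]
      fin_cases p <;> simp [u, hXX, Matrix.one_apply, mul_comm]
    · obtain ⟨α, β, hαβ⟩ : ∃ α β : F, α ^ 2 + -z * β ^ 2 = d := by
        let f : Polynomial F := Polynomial.X ^ 2
        let g : Polynomial F := Polynomial.C (-z) * Polynomial.X ^ 2 - Polynomial.C d
        have hne : ringChar F ≠ 2 := fun h => h2 (by
          haveI := ringChar.of_eq h
          exact CharTwo.two_eq_zero)
        obtain ⟨α, β, hαβ⟩ := FiniteField.exists_root_sum_quadratic (f := f) (g := g)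
          (Polynomial.degree_X_pow 2) (by
            simp only [g]
            rw [Polynomial.degree_sub_eq_left_of_degree_lt] <;> rw [Polynomial.degree_C_mul_X_pow 2 (neg_ne_zero.2 hz)]
            · rfl
            · exact (Polynomial.degree_C_le).trans_lt (by norm_num))
          (FiniteField.odd_card_of_char_ne_two hne)
        exact ⟨α, β, by simp [f, g] at hαβ; linear_combination hαβ⟩
      refine ⟨Matrix.blockDiagonal (Function.update (1 : Fin b → Matrix (Fin 2) (Fin 2) F) ⟨0, hb⟩ !![α, β * z; β, α]), ?_, ?_⟩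
      · rw [Matrix.det_blockDiagonal, Finset.prod_eq_single (⟨0, hb⟩ : Fin b)]
        · rw [Function.update_self, Matrix.det_fin_two_of, ← hαβ]; ring
        · intro j _ hj; simp [hj]
        · simp
      · rw [IsUnit.unit_spec, Units.val_one, Matrix.kronecker_one, Commute, SemiconjBy, ← Matrix.blockDiagonal_mul,
          ← Matrix.blockDiagonal_mul]
        congr 1
        funext j
        rcases eq_or_ne j ⟨0, hb⟩ with rfl | hj
        · rw [Function.update_self, Matrix.mul_fin_two, Matrix.mul_fin_two]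
          ext i k; fin_cases i <;> fin_cases k <;> simp <;> ring
        · simp [hj]

end Cfsg.Agent.KronRank
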