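import Cfsg.Prelude.Def_GeometricClasses
import Cfsg.Agent.KronRank.Basic

/-!
Membership in stabilisers of tensor decompositions, polynomial ranks of conjugates, and the cyclic bound for the
rank of `A ⊗ B - c`.
-/

set_option autoImplicit false
set_option linter.unusedSectionVars false

namespace Cfsg.Agent.KronRank

open Matrix Module Kronecker Polynomial

variable {F : Type*} [Field F] {ι : Type} [Fintype ι] [DecidableEq ι] {a b : ℕ}

theorem mem_tensor_iff (e : ι ≃ Fin a × Fin b) (P y : GL ι F) :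
    y ∈ Cfsg.Geo.tensorProductSubgroup a b e P ↔
      ∃ (A : GL (Fin a) F) (B : GL (Fin b) F),
        ((P⁻¹ * y * P : GL ι F) : Matrix ι ι F) = (A.1 ⊗ₖ B.1).submatrix e e := by
  constructor
  · rintro ⟨k, ⟨g, ⟨A, B, hg⟩, rfl⟩, rfl⟩
    refine ⟨A, B, ?_⟩
    rw [MulEquiv.coe_toMonoidHom, MulEquiv.coe_toMonoidHom, MulAut.conj_apply, mul_assoc, inv_mul_cancel_right,
      inv_mul_cancel_left]
    show Matrix.reindexAlgEquiv F F e.symm (g : Matrix (Fin a × Fin b) (Fin a × Fin b) F) = _
    rw [hg, Matrix.reindexAlgEquiv_apply, Matrix.reindex_apply, Equiv.symm_symm]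
  · rintro ⟨A, B, hAB⟩
    have hu : IsUnit (A.1 ⊗ₖ B.1) := by
      rw [Matrix.isUnit_iff_isUnit_det, Matrix.det_kronecker]
      exact ((Matrix.isUnit_iff_isUnit_det _).1 A.isUnit).pow _ |>.mul (((Matrix.isUnit_iff_isUnit_det _).1 B.isUnit).pow _)
    refine ⟨Cfsg.Geo.glReindex e.symm hu.unit, ⟨hu.unit, ⟨A, B, hu.unit_spec⟩, rfl⟩, ?_⟩
    have e1 : Cfsg.Geo.glReindex e.symm hu.unit = P⁻¹ * y * P := Units.ext (by
      rw [hAB]
      show Matrix.reindexAlgEquiv F F e.symm (hu.unit : Matrix (Fin a × Fin b) (Fin a × Fin b) F) = _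
      rw [hu.unit_spec, Matrix.reindexAlgEquiv_apply, Matrix.reindex_apply, Equiv.symm_symm])
    rw [e1, MulEquiv.coe_toMonoidHom, MulAut.conj_apply]
    group

/-- The ranks of all polynomials in `x` are read off a conjugate Kronecker product. -/
theorem conj_data (e : ι ≃ Fin a × Fin b) (P x g : GL ι F)
    (h : g⁻¹ * x * g ∈ Cfsg.Geo.tensorProductSubgroup a b e P) :
    ∃ (A : GL (Fin a) F) (B : GL (Fin b) F), ∀ f : F[X], (aeval x.1 f).rank = (aeval (A.1 ⊗ₖ B.1) f).rank := by
  obtain ⟨A, B, hAB⟩ := (mem_tensor_iff e P _).1 h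
  refine ⟨A, B, fun f => ?_⟩
  set u := g * P with hu
  have e1 : P⁻¹ * (g⁻¹ * x * g) * P = u⁻¹ * x * u := by rw [hu]; group
  rw [e1] at hAB
  let Φ : Matrix ι ι F →ₐ[F] Matrix (Fin a × Fin b) (Fin a × Fin b) F :=
    AlgHom.ofLinearMap
      { toFun := fun M => ((u⁻¹).1 * M * u.1).submatrix e.symm e.symm
        map_add' := fun M N => by simp [mul_add, add_mul, Matrix.submatrix_add]
        map_smul' := fun c M => by simp [Matrix.submatrix_smul] }
      (by simp [Matrix.submatrix_one_equiv])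
      (fun M N => by
        show ((u⁻¹).1 * (M * N) * u.1).submatrix e.symm e.symm = _
        rw [LinearMap.coe_mk, AddHom.coe_mk, Matrix.submatrix_mul_equiv]
        congr 1
        simp only [mul_assoc, ← Units.val_mul, mul_inv_cancel_left]
        rw [← mul_assoc u.1, ← Units.val_mul, mul_inv_cancel, Units.val_one, one_mul])
  have hΦ : ∀ M, (Φ M).rank = M.rank := fun M => by
    have hdu : ∀ v : GL ι F, IsUnit v.1.det := fun v => (Matrix.isUnit_iff_isUnit_det _).1 v.isUnit
    show (((u⁻¹).1 * M * u.1).submatrix e.symm e.symm).rank = _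
    rw [Matrix.rank_submatrix, Matrix.rank_mul_eq_left_of_isUnit_det _ _ (hdu u),
      Matrix.rank_mul_eq_right_of_isUnit_det _ _ (hdu u⁻¹)]
  have hx : Φ x.1 = A.1 ⊗ₖ B.1 := by
    show ((u⁻¹).1 * x.1 * u.1).submatrix e.symm e.symm = _
    rw [← Units.val_mul, ← Units.val_mul, hAB, Matrix.submatrix_submatrix, Equiv.self_comp_symm, Matrix.submatrix_id_id]
  rw [← hx, Polynomial.aeval_algHom_apply, hΦ]

/-- `A ↦ A ⊗ 1` and `B ↦ 1 ⊗ B` commute with polynomials. -/
theorem aeval_one_kron (B : Matrix (Fin b) (Fin b) F) (f : F[X]) :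
    aeval ((1 : Matrix (Fin a) (Fin a) F) ⊗ₖ B) f = (1 : Matrix (Fin a) (Fin a) F) ⊗ₖ aeval B f := by
  induction f using Polynomial.induction_on' with
  | add p q hp hq => rw [map_add, map_add, hp, hq, Matrix.kronecker_add]
  | monomial k c => rw [aeval_monomial, aeval_monomial, pow_kron, one_pow, ← Algebra.smul_def, ← Algebra.smul_def,
      Matrix.kronecker_smul]

/-- A scalar left factor. -/
theorem dvd_rank_of_scalar {A : Matrix (Fin a) (Fin a) F} (B : Matrix (Fin b) (Fin b) F) {t : F} (hA : A = t • 1)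
    (f : F[X]) : a ∣ (aeval (A ⊗ₖ B) f).rank := by
  rw [hA, Matrix.smul_kronecker, ← Matrix.kronecker_smul, aeval_one_kron, rank_one_kron]
  exact dvd_mul_right a _

theorem rank_swap (A : Matrix (Fin a) (Fin a) F) (B : Matrix (Fin b) (Fin b) F) (c : F) :
    (A ⊗ₖ B - c • 1).rank = (B ⊗ₖ A - c • 1).rank := by
  rw [← Matrix.rank_submatrix (B ⊗ₖ A - c • 1) (Equiv.prodComm (Fin a) (Fin b)) (Equiv.prodComm (Fin a) (Fin b))]
  congr 1
  ext ⟨i, j⟩ ⟨i', j'⟩
  simp [Matrix.one_apply, mul_comm (A i i'), and_comm]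

/-- A long orbit of the left factor forces large rank. -/
theorem le_rank_of_orbit (A : Matrix (Fin a) (Fin a) F) (B : Matrix (Fin b) (Fin b) F) {c : F} (hc : c ≠ 0) {k : ℕ}
    {φ : Fin a → F} (hφ : LinearIndependent F fun i : Fin (k + 1) => φ ᵥ* A ^ (i : ℕ)) :
    k * b ≤ (A ⊗ₖ B - c • 1).rank := by
  classical
  set U := Submodule.span F (Set.range fun i : Fin (k + 1) => φ ᵥ* A ^ (i : ℕ)) with hU
  obtain ⟨C, hC⟩ := U.exists_isCompl
  have hdim : finrank F C + (k + 1) = a := by
    have := Submodule.finrank_add_eq_of_isCompl hC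
    rw [hU, finrank_span_eq_card hφ, Fintype.card_fin, Module.finrank_fin_fun] at this
    omega
  set K := LinearMap.ker (A ⊗ₖ B - c • 1).mulVecLin with hK
  let Φ : (Fin a × Fin b → F) →ₗ[F] (Fin a → F) →ₗ[F] (Fin b → F) :=
    LinearMap.mk₂ F (fun v ψ j => ∑ i, ψ i * v (i, j))
      (fun v v' ψ => funext fun j => by simp [mul_add, Finset.sum_add_distrib])
      (fun t v ψ => funext fun j => by simp [Finset.mul_sum, mul_left_comm])
      (fun v ψ ψ' => funext fun j => by simp [add_mul, Finset.sum_add_distrib])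
      (fun t v ψ => funext fun j => by simp [Finset.mul_sum, mul_assoc])
  have hΦ : ∀ v ψ j, Φ v ψ j = ∑ i, ψ i * v (i, j) := fun v ψ j => rfl
  have heq : ∀ v (ψ : Fin a → F), B *ᵥ Φ v (ψ ᵥ* A) = Φ ((A ⊗ₖ B) *ᵥ v) ψ := fun v ψ => funext fun j => by
    simp only [Matrix.mulVec, dotProduct, Matrix.vecMul, hΦ, Matrix.kroneckerMap_apply, Fintype.sum_prod_type,
      Finset.mul_sum, Finset.sum_mul]
    rw [Finset.sum_comm]
    rw [Finset.sum_comm (γ := Fin a) (α := Fin a)] at *
    refine Finset.sum_congr rfl fun i' _ => ?_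
    rw [Finset.sum_comm]
    exact Finset.sum_congr rfl fun i _ => Finset.sum_congr rfl fun j' _ => by ring
  let L : K →ₗ[F] (C →ₗ[F] (Fin b → F)) × (Fin b → F) :=
    ((LinearMap.lcomp F _ C.subtype).comp (Φ.comp K.subtype)).prod
      ((Φ.comp K.subtype).flip (φ ᵥ* A ^ k))
  have hL : Function.Injective L := (injective_iff_map_eq_zero L).2 fun v hv => by
    have hC0 : ∀ ψ ∈ C, Φ v.1 ψ = 0 := fun ψ hψ => LinearMap.congr_fun (congrArg Prod.fst hv) ⟨ψ, hψ⟩
    have hk0 : Φ v.1 (φ ᵥ* A ^ k) = 0 := congrArg Prod.snd hv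
    have hker : (A ⊗ₖ B) *ᵥ v.1 = c • v.1 := by
      have h : (A ⊗ₖ B - c • 1) *ᵥ v.1 = 0 := v.2
      rwa [Matrix.sub_mulVec, Matrix.smul_mulVec, Matrix.one_mulVec, sub_eq_zero] at h
    have hdown : ∀ j, j ≤ k → Φ v.1 (φ ᵥ* A ^ (k - j)) = 0 := by
      intro j
      induction j with
      | zero => exact fun _ => hk0
      | succ j ih =>
        intro hj
        have h1 := heq v.1 (φ ᵥ* A ^ (k - (j + 1)))
        rw [Matrix.vecMul_vecMul, ← pow_succ, show k - (j + 1) + 1 = k - j by omega, ih (by omega), Matrix.mulVec_zero,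
          hker, map_smul, LinearMap.smul_apply, eq_comm, smul_eq_zero] at h1
        exact h1.resolve_left hc
    have hU0 : U ≤ LinearMap.ker (Φ v.1) := by
      rw [hU, Submodule.span_le]
      rintro _ ⟨i, rfl⟩
      have := hdown (k - i) (by omega)
      rwa [show k - (k - (i : ℕ)) = i by have := i.2; omega] at this
    have hall : ∀ ψ, Φ v.1 ψ = 0 := fun ψ => by
      obtain ⟨u, hu, w, hw, rfl⟩ := Submodule.mem_sup.1 (show ψ ∈ U ⊔ C by rw [hC.sup_eq_top]; trivial)
      rw [map_add, hC0 w hw, LinearMap.mem_ker.1 (hU0 hu), add_zero]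
    refine Subtype.ext (funext fun p => ?_)
    have := congrFun (hall (Pi.single p.1 1)) p.2
    rw [hΦ] at this
    simpa [Pi.single_apply] using this
  have h1 := LinearMap.finrank_le_finrank_of_injective hL
  rw [Module.finrank_prod, Module.finrank_linearMap, Module.finrank_fin_fun] at h1
  have h3 := LinearMap.finrank_range_add_finrank_ker (A ⊗ₖ B - c • 1).mulVecLin
  rw [← hK, Module.finrank_pi, Fintype.card_prod, Fintype.card_fin, Fintype.card_fin] at h3
  change k * b ≤ finrank F (LinearMap.range (A ⊗ₖ B - c • 1).mulVecLin)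
  have h4 : a * b = finrank F C * b + k * b + b := by
    conv_lhs => rw [← hdim]
    ring
  omega

variable [Fintype F]

/-- An element of prime order has an orbit of the length of the order of the field modulo `r`. -/
theorem exists_orbit {r : ℕ} (hr : r.Prime) (hrF : (r : F) ≠ 0) {M : Matrix (Fin b) (Fin b) F} (hMr : M ^ r = 1)
    (hM : M ≠ 1) :
    ∃ φ : Fin b → F, LinearIndependent F fun i : Fin (orderOf (Fintype.card F : ZMod r)) => φ ᵥ* M ^ (i : ℕ) := by
  classical
  obtain ⟨φ, hφ⟩ : ∃ φ : Fin b → F, φ ᵥ* M ≠ φ := by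
    by_contra h
    push Not at h
    exact hM (Matrix.ext_iff_vecMul.2 fun v => by rw [h, Matrix.vecMul_one])
  refine ⟨φ, ?_⟩
  set e := orderOf (Fintype.card F : ZMod r) with he
  suffices ∀ k ≤ e, LinearIndependent F fun i : Fin k => φ ᵥ* M ^ (i : ℕ) from this e le_rfl
  intro k
  induction k with
  | zero => exact fun _ => linearIndependent_empty_type
  | succ k ih =>
    intro hk
    rw [linearIndependent_finSucc']
    refine ⟨ih (by omega), fun hmem => ?_⟩
    set S := Submodule.span F (Set.range fun i : Fin k => φ ᵥ* M ^ (i : ℕ))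
    replace hmem : φ ᵥ* M ^ k ∈ S := hmem
    have hinv : ∀ v ∈ S, (Mᵀ).mulVecLin v ∈ S := by
      intro v hv
      rw [Matrix.mulVecLin_apply, Matrix.mulVec_transpose]
      induction hv using Submodule.span_induction with
      | mem x hx =>
        obtain ⟨i, rfl⟩ := hx
        rw [Matrix.vecMul_vecMul, ← pow_succ]
        by_cases hi : (i : ℕ) + 1 < k
        · exact Submodule.subset_span ⟨⟨_, hi⟩, rfl⟩
        · rw [show (i : ℕ) + 1 = k by omega]; exact hmem
      | zero => simp
      | add x y _ _ hx hy => rw [Matrix.add_vecMul]; exact add_mem hx hy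
      | smul c x _ hx => rw [Matrix.smul_vecMul]; exact Submodule.smul_mem _ _ hx
    let bS := Module.finBasis F S
    let f : Module.End F S := (Mᵀ).mulVecLin.restrict hinv
    let N := LinearMap.toMatrixAlgEquiv bS f
    have hp : ∀ (i : ℕ) (v : S), ((f ^ i) v).1 = v.1 ᵥ* M ^ i := by
      intro i
      induction i with
      | zero => intro v; simp
      | succ i ih =>
        intro v
        rw [pow_succ', Module.End.mul_apply, pow_succ, ← Matrix.vecMul_vecMul, ← ih]
        show (Mᵀ).mulVecLin _ = _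
        rw [Matrix.mulVecLin_apply, Matrix.mulVec_transpose]
        rfl
    have hfr : f ^ r = 1 := LinearMap.ext fun v => Subtype.ext (by rw [hp, hMr, Matrix.vecMul_one]; rfl)
    have hφS : φ ∈ S := by
      rcases Nat.eq_zero_or_pos k with hk0 | hk0
      · have h0 : φ ᵥ* M ^ k ∈ S := hmem
        rw [hk0, pow_zero, Matrix.vecMul_one] at h0
        exact h0
      · have := Submodule.subset_span (R := F) (s := Set.range fun i : Fin k => φ ᵥ* M ^ (i : ℕ)) ⟨⟨0, hk0⟩, rfl⟩
        simpa using this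
    have hf1 : f ≠ 1 := fun h => hφ (by
      have := congrArg Subtype.val (LinearMap.congr_fun h ⟨φ, hφS⟩)
      rw [← pow_one f, hp, pow_one] at this
      exact this)
    have hdim : finrank F S ≤ k := (finrank_range_le_card _).trans (Fintype.card_fin k).le
    have h1 := order_le_rank (F := F) hr hrF (M := N) (by rw [← map_pow, hfr, map_one])
      (fun h => hf1 ((LinearMap.toMatrixAlgEquiv bS).injective (h.trans (map_one _).symm)))
    rw [← he] at h1
    have h2 := (N - 1).rank_le_width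
    omega

end Cfsg.Agent.KronRank
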